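-- Team project OHYP (S5992), package [BLK]: assembly of the cut (helper27).
import Mathlib
import Cfsg.Agent.Lib.Helper27.OHyp.BlkDefs

set_option autoImplicit false
set_option linter.unusedSectionVars false
open Matrix

namespace Cfsg.Agent.Lib.Helper27.OHyp

open Cfsg.Agent.Lib.Helper23.OHyp

universe u

section

variable {F : Type u} [Field F] {ι : Type} [Fintype ι] [DecidableEq ι]

theorem inv_sup_blk {x : Matrix ι ι F} {U U' : Submodule F (ι → F)} (h : Inv x U)
    (h' : Inv x U') : Inv x (U ⊔ U') := by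
  unfold Cfsg.Agent.Lib.Helper23.OHyp.Inv at *
  rw [Submodule.map_sup]
  exact sup_le_sup h h'

theorem polar_self_blk {Q : (ι → F) → F} (hQ : Cfsg.Geo.IsNondegenerateQuadraticForm Q)
    (v : ι → F) : QuadraticMap.polar Q v v = 2 * Q v := by
  have h2 : v + v = (2 : F) • v := by rw [two_smul]
  unfold QuadraticMap.polar
  rw [h2, hQ.smul]
  ring

theorem quad_zero_of_perp_blk {Q : (ι → F) → F} (hQ : Cfsg.Geo.IsNondegenerateQuadraticForm Q)
    (h2 : (2 : F) ≠ 0) {U : Submodule F (ι → F)} (hU : Perp Q U U) :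
    Cfsg.Geo.IsTotallySingularQuad Q U := by
  intro w hw
  have h := hU w hw w hw
  rw [polar_self_blk hQ] at h
  rcases mul_eq_zero.mp h with h | h
  · exact absurd h h2
  · exact h

end

theorem ordI_pos_blk {q r : ℕ} (hr : r.Prime) (hq : ¬ r ∣ q) : 0 < ordI q r := by
  unfold ordI
  have : Fact r.Prime := ⟨hr⟩
  have hne : ((q : ℕ) : ZMod r) ≠ 0 := by
    intro h
    exact hq ((ZMod.natCast_eq_zero_iff q r).mp h)
  have hu : IsUnit ((q : ℕ) : ZMod r) := IsUnit.mk0 _ hne
  obtain ⟨w, hw⟩ := hu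
  rw [← hw, orderOf_units]
  exact orderOf_pos w

/-- Assembly of [BLK]. -/
theorem pkgBlk_of (hMinEx : PkgMinEx.{u}) (hDich : PkgDich.{u})
    (hInj : PkgInj.{u}) (hPSum : PkgPSum.{u}) (hPair : PkgPair.{u}) (hIrr : PkgIrrDim.{u})
    (hOdd : PkgOddTS.{u}) (hEven : PkgEvenMix.{u}) (hMinus : PkgMinus.{u}) : PkgBlk.{u} := by
  intro F _ _ ι _ _ Q r x hS W hWm hWi hWn hW0
  have hQ := hS.nondeg
  have hipos : 0 < ordI (Fintype.card F) r := ordI_pos_blk hS.prime hS.ndvd
  -- a nonzero invariant subspace of the moved space of dimension at most `i` is minimal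
  have key : ∀ U' : Submodule F (ι → F), U' ≤ movSp x → Inv x U' → U' ≠ ⊥ →
      Module.finrank F U' ≤ ordI (Fintype.card F) r →
      Min x U' ∧ Module.finrank F U' = ordI (Fintype.card F) r := by
    intro U' hm hi h0 hd
    obtain ⟨U'', hle, hmin⟩ := hMinEx F ι x U' hi h0
    have hd'' := hIrr F ι Q r x hS U'' (hle.trans hm) hmin
    have heq : U'' = U' := Submodule.eq_of_le_of_finrank_le hle (by rw [hd'']; exact hd)
    rw [← heq]
    exact ⟨hmin, hd''⟩
  obtain ⟨U, hUW, hUmin⟩ := hMinEx F ι x W hWi hW0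
  have hUm : U ≤ movSp x := hUW.trans hWm
  have hUd := hIrr F ι Q r x hS U hUm hUmin
  by_cases hpar : Even (ordI (Fintype.card F) r)
  · -- `i` even: find a nondegenerate minimal subspace
    have hcc : cc (Fintype.card F) r = ordI (Fintype.card F) r := by
      unfold cc; rw [if_pos hpar]
    have fin : ∀ D : Submodule F (ι → F), D ≤ W → Inv x D → Nd Q D →
        Module.finrank F D = ordI (Fintype.card F) r →
        ∃ D : Submodule F (ι → F), D ≤ W ∧ Inv x D ∧ Nd Q D ∧
          Module.finrank F D = cc (Fintype.card F) r ∧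
          (Plus Q D ↔ Odd (ordI (Fintype.card F) r)) := by
      intro D hDW hDi hDn hDd
      refine ⟨D, hDW, hDi, hDn, by rw [hcc]; exact hDd, ?_⟩
      constructor
      · intro hP
        exact absurd hP (hMinus F ι Q r x hS hpar D (hDW.trans hWm) hDi hDn hDd)
      · intro ho
        exact absurd hpar (Nat.not_even_iff_odd.mpr ho)
    rcases hDich F ι Q r x hS U hUmin with hUn | hUp
    · exact fin U hUW hUmin.1 hUn hUd
    · obtain ⟨U', hU'W, hU'i, hU'0, hPI⟩ := hPair F ι Q r x hS W U hWi hWn hUW hUmin.1 hUmin.2.1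
      have hU'le := hInj F ι Q hQ U U' hPI
      rw [hUd] at hU'le
      obtain ⟨hU'min, hU'd⟩ := key U' (hU'W.trans hWm) hU'i hU'0 hU'le
      rcases hDich F ι Q r x hS U' hU'min with hU'n | hU'p
      · exact fin U' hU'W hU'i hU'n hU'd
      · obtain ⟨Z, hZle, hZi, hZd, w, hwZ, hw⟩ :=
          hEven F ι Q r x hS hpar U U' hUmin.1 hU'i hUp hU'p hUd hU'0 hPI
        have hZW : Z ≤ W := hZle.trans (sup_le hUW hU'W)
        have hZ0 : Z ≠ ⊥ := by
          intro h
          rw [h, Submodule.mem_bot] at hwZ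
          apply hw
          have := hQ.smul 0 w
          rw [zero_smul] at this
          rw [hwZ, this]; ring
        obtain ⟨hZmin, hZd'⟩ := key Z (hZW.trans hWm) hZi hZ0 hZd
        rcases hDich F ι Q r x hS Z hZmin with hZn | hZp
        · exact fin Z hZW hZi hZn hZd'
        · exact absurd (quad_zero_of_perp_blk hQ hS.two hZp w hwZ) hw
  · -- `i` odd: a hyperbolic pair of minimal totally singular subspaces
    have hodd : Odd (ordI (Fintype.card F) r) := Nat.not_even_iff_odd.mp hpar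
    have hcc : cc (Fintype.card F) r = 2 * ordI (Fintype.card F) r := by
      unfold cc; rw [if_neg hpar]
    have hUp : Perp Q U U := by
      rcases hDich F ι Q r x hS U hUmin with hUn | hUp
      · exact absurd (by rw [hUd]; exact hodd) (hOdd F ι Q r x hS U hUm hUmin.1 hUn)
      · exact hUp
    obtain ⟨U', hU'W, hU'i, hU'0, hPI⟩ := hPair F ι Q r x hS W U hWi hWn hUW hUmin.1 hUmin.2.1
    have hU'le := hInj F ι Q hQ U U' hPI
    rw [hUd] at hU'le
    obtain ⟨hU'min, hU'd⟩ := key U' (hU'W.trans hWm) hU'i hU'0 hU'le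
    have hU'p : Perp Q U' U' := by
      rcases hDich F ι Q r x hS U' hU'min with hUn | hUp
      · exact absurd (by rw [hU'd]; exact hodd)
          (hOdd F ι Q r x hS U' (hU'W.trans hWm) hU'i hUn)
      · exact hUp
    obtain ⟨hDn, hDd⟩ := hPSum F ι Q hQ U U' hUp hU'p hPI (by rw [hU'd, hUd])
    refine ⟨U ⊔ U', sup_le hUW hU'W, inv_sup_blk hUmin.1 hU'i, hDn, by rw [hDd, hUd, hcc], ?_⟩
    constructor
    · intro _; exact hodd
    · intro _
      exact ⟨U, le_sup_left, quad_zero_of_perp_blk hQ hS.two hUp, by rw [hDd]⟩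

end Cfsg.Agent.Lib.Helper27.OHyp
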